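import Mathlib
import Groth.Prelude.Def_Grpd
import Groth.Prelude.Def_AlgSp

/-!
# The groupoid scheme of an equivalence relation `s, t : R ⟶ U` over `S` (helper14)
-/

set_option autoImplicit false
universe u

open CategoryTheory CategoryTheory.Limits AlgebraicGeometry

namespace Groth.Agent.Lib.Helper14.EqvSlice

variable {S : Scheme.{u}}

/-- scheme-level data of an equivalence relation -/
structure EqvData {U R : Scheme.{u}} (pU : U ⟶ S) (s t : R ⟶ U) where
  w : s ≫ pU = t ≫ pU
  e : U ⟶ R
  e_s : e ≫ s = 𝟙 U
  e_t : e ≫ t = 𝟙 U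
  i : R ⟶ R
  i_s : i ≫ s = t
  i_t : i ≫ t = s
  c : pullback s t ⟶ R
  c_s : c ≫ s = pullback.snd s t ≫ s
  c_t : c ≫ t = pullback.fst s t ≫ t
  ext : ∀ {T : Scheme.{u}} (a b : T ⟶ R), a ≫ t = b ≫ t → a ≫ s = b ≫ s → a = b

attribute [reassoc] EqvData.e_s EqvData.e_t EqvData.i_s EqvData.i_t EqvData.c_s EqvData.c_t

namespace EqvData

variable {U R : Scheme.{u}} {pU : U ⟶ S} {s t : R ⟶ U} (D : EqvData pU s t)

/-- the groupoid scheme of an equivalence relation -/
noncomputable abbrev toGrpd : Grpd.GroupoidScheme S where
  U := U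
  R := R
  pU := pU
  pR := t ≫ pU
  s := s
  t := t
  e := D.e
  i := D.i
  c := D.c
  s_over := D.w
  t_over := rfl
  comp_s := fun α β h => by
    simp only [Category.assoc, D.c_s, pullback.lift_snd_assoc]
  comp_t := fun α β h => by
    simp only [Category.assoc, D.c_t, pullback.lift_fst_assoc]
  assoc := fun α β γ h₁ h₂ => by
    apply D.ext
    · simp only [Category.assoc, D.c_t, pullback.lift_fst_assoc]
    · simp only [Category.assoc, D.c_s, pullback.lift_snd_assoc]
  e_s := D.e_s
  e_t := D.e_t
  comp_e := fun α => by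
    apply D.ext
    · simp only [Category.assoc, D.c_t, pullback.lift_fst_assoc]
    · simp only [Category.assoc, D.c_s, pullback.lift_snd_assoc, D.e_s, Category.comp_id]
  e_comp := fun α => by
    apply D.ext
    · simp only [Category.assoc, D.c_t, pullback.lift_fst_assoc, D.e_t, Category.comp_id]
    · simp only [Category.assoc, D.c_s, pullback.lift_snd_assoc]
  i_s := D.i_s
  i_t := D.i_t
  comp_i := fun α => by
    apply D.ext
    · simp only [Category.assoc, D.c_t, pullback.lift_fst_assoc, D.e_t, Category.comp_id]
    · simp only [Category.assoc, D.c_s, pullback.lift_snd_assoc, D.i_s, D.e_s, Category.comp_id]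
  i_comp := fun α => by
    apply D.ext
    · simp only [Category.assoc, D.c_t, pullback.lift_fst_assoc, D.i_t, D.e_t, Category.comp_id]
    · simp only [Category.assoc, D.c_s, pullback.lift_snd_assoc, D.e_s, Category.comp_id]

instance mono_j : Mono D.toGrpd.j := by
  constructor
  intro T a b hab
  have h1 := congrArg (· ≫ pullback.fst _ _) hab
  have h2 := congrArg (· ≫ pullback.snd _ _) hab
  simp only [Category.assoc, Grpd.GroupoidScheme.j, pullback.lift_fst, pullback.lift_snd] at h1 h2
  exact D.ext a b h1 h2

end EqvData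

variable {R U : Over S} {s t : R ⟶ U}

theorem ext_left (h : AlgSp.IsEqvRel s t) {T : Scheme.{u}} (a b : T ⟶ R.left)
    (h1 : a ≫ t.left = b ≫ t.left) (h2 : a ≫ s.left = b ≫ s.left) : a = b := by
  have hb : b ≫ R.hom = a ≫ R.hom := by
    rw [← Over.w t, ← Category.assoc, ← h1, Category.assoc]
  have := h.injective (Over.mk (a ≫ R.hom)) (Over.homMk a rfl) (Over.homMk b hb)
    (Over.OverMorphism.ext h1) (Over.OverMorphism.ext h2)
  exact congrArg (·.left) this

/-- the scheme-level data of an equivalence relation over `S` -/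
theorem nonempty_eqvData (h : AlgSp.IsEqvRel s t) : Nonempty (EqvData U.hom s.left t.left) := by
  obtain ⟨e, he1, he2⟩ := (h.equivalence U).refl (𝟙 U)
  obtain ⟨i, hi1, hi2⟩ := (h.equivalence R).symm ⟨𝟙 R, rfl, rfl⟩
  have hp2 : pullback.snd s.left t.left ≫ R.hom = pullback.fst s.left t.left ≫ R.hom := by
    calc pullback.snd s.left t.left ≫ R.hom = pullback.snd s.left t.left ≫ t.left ≫ U.hom := by
          rw [Over.w t]
      _ = pullback.fst s.left t.left ≫ s.left ≫ U.hom := by
          rw [← Category.assoc, ← pullback.condition, Category.assoc]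
      _ = pullback.fst s.left t.left ≫ R.hom := by rw [Over.w s]
  rw [Category.id_comp] at hi1 hi2
  obtain ⟨c, hc1, hc2⟩ := (h.equivalence (Over.mk (pullback.fst s.left t.left ≫ R.hom))).trans
    (x := Over.homMk (pullback.fst s.left t.left) rfl ≫ t)
    (y := Over.homMk (pullback.fst s.left t.left) rfl ≫ s)
    (z := Over.homMk (pullback.snd s.left t.left) hp2 ≫ s)
    ⟨Over.homMk (pullback.fst s.left t.left) rfl, rfl, rfl⟩
    ⟨Over.homMk (pullback.snd s.left t.left) hp2, by
      apply Over.OverMorphism.ext
      exact pullback.condition.symm, rfl⟩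
  refine ⟨{ w := by rw [Over.w s, Over.w t]
            e := e.left
            e_s := ?_
            e_t := ?_
            i := i.left
            i_s := ?_
            i_t := ?_
            c := c.left
            c_s := ?_
            c_t := ?_
            ext := fun a b h1 h2 => ext_left h a b h1 h2 }⟩
  · exact congrArg (·.left) he2
  · exact congrArg (·.left) he1
  · exact congrArg (·.left) hi2
  · exact congrArg (·.left) hi1
  · exact congrArg (·.left) hc2
  · exact congrArg (·.left) hc1

end Groth.Agent.Lib.Helper14.EqvSlice
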