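import Groth.Agent.Lib.Helper14.MaxSlice.QF
import Groth.Agent.Lib.Helper14.FtPts

/-!
# A quasi-finite slice `Z ⟶ U` meeting every orbit (helper14)
-/

set_option autoImplicit false
set_option linter.style.haveILetI false
universe u

open CategoryTheory CategoryTheory.Limits AlgebraicGeometry

namespace Groth.Agent.Lib.Helper14.EqvSlice

open Groth.Agent.Lib.Helper14.MaxSlice Groth.Agent.Lib.Helper14.GrpdCM Groth.Agent.Lib.Helper11.GrpdLib

variable {S : Scheme.{u}} (G : Grpd.GroupoidScheme S)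

/-- every point over `range j` comes from the reparametrization `omega`. -/
theorem exists_omega_eq {Z Z'' : Scheme.{u}} (g : Z ⟶ G.U) (j : Z'' ⟶ Z) (x : ↑(pullback g G.t))
    (z : Z'') (hz : j z = pullback.fst g G.t x) : ∃ y, omega G g j y = x := by
  obtain ⟨w, -, hw2⟩ := Scheme.Pullback.exists_preimage_pullback z x hz
  refine ⟨(pullbackRightPullbackFstIso g G.t j).hom w, ?_⟩
  unfold omega
  rw [← Scheme.Hom.comp_apply, Iso.hom_inv_id_assoc]
  exact hw2

/-- a source-local property of `h` passes to coproducts of slices. -/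
theorem prop_sigma_of_local (P : MorphismProperty Scheme.{u}) [IsZariskiLocalAtSource P] {I : Type u}
    (Z : I → Scheme.{u}) (g : ∀ i, Z i ⟶ G.U) (hP : ∀ i, P (pullback.snd (g i) G.t ≫ G.s)) :
    P (pullback.snd (Sigma.desc g) G.t ≫ G.s) := by
  have hcov : ∀ x : ↑(pullback (Sigma.desc g) G.t), ∃ i y,
      omega G (Sigma.desc g) (Sigma.ι Z i) y = x := by
    intro x
    obtain ⟨i, z, hz⟩ := (AlgebraicGeometry.sigmaOpenCover Z).exists_eq (pullback.fst (Sigma.desc g) G.t x)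
    exact ⟨i, exists_omega_eq G (Sigma.desc g) (Sigma.ι Z i) x z hz⟩
  let 𝒰 : (pullback (Sigma.desc g) G.t).OpenCover :=
    Scheme.Cover.mkOfCovers I (fun i => pullback (Sigma.ι Z i ≫ Sigma.desc g) G.t)
      (fun i => omega G (Sigma.desc g) (Sigma.ι Z i)) hcov (fun i => inferInstance)
  refine IsZariskiLocalAtSource.of_openCover 𝒰 fun i => ?_
  show P (omega G (Sigma.desc g) (Sigma.ι Z i) ≫ pullback.snd (Sigma.desc g) G.t ≫ G.s)
  rw [← comp_s_eq]
  have key : ∀ g' : Z i ⟶ G.U, g' = g i → P (pullback.snd g' G.t ≫ G.s) := by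
    rintro g' rfl
    exact hP i
  exact key _ (Sigma.ι_desc g i)

/-- the range of `h` is invariant. -/
theorem range_h_invariant {Z : Scheme.{u}} (g : Z ⟶ G.U) (r : G.R)
    (hr : G.t r ∈ Set.range (pullback.snd g G.t ≫ G.s)) :
    G.s r ∈ Set.range (pullback.snd g G.t ≫ G.s) := by
  obtain ⟨q, hq⟩ := hr
  rw [Scheme.Hom.comp_apply] at hq
  obtain ⟨γ, hγ1, hγ2⟩ := exists_comp_point (pullback.snd g G.t q) r hq
  have hq' : g (pullback.fst g G.t q) = G.t γ := by
    rw [hγ1, ← Scheme.Hom.comp_apply, ← Scheme.Hom.comp_apply, pullback.condition]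
  obtain ⟨q', -, hq'2⟩ := Scheme.Pullback.exists_preimage_pullback _ _ hq'
  exact ⟨q', by rw [Scheme.Hom.comp_apply, hq'2, hγ2]⟩

end Groth.Agent.Lib.Helper14.EqvSlice

namespace Groth.Agent.Lib.Helper14.EqvSlice

open Groth.Agent.Lib.Helper14.MaxSlice Groth.Agent.Lib.Helper14.GrpdCM Groth.Agent.Lib.Helper11.GrpdLib

variable {S : Scheme.{u}} (G : Grpd.GroupoidScheme S)

/-- an open subset of a scheme containing all finite type points of an open `W` contains `W`. -/
theorem subset_of_ftPts_mem {X : Scheme.{u}} (W : X.Opens) (V : Set X) (hV : IsOpen V)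
    (h : ∀ x ∈ W, LocallyOfFiniteType (X.fromSpecResidueField x) → x ∈ V) : (W : Set X) ⊆ V := by
  intro w hw
  by_contra hnot
  obtain ⟨W₀, hW₀aff, hwW₀, hW₀W⟩ := (TopologicalSpace.Opens.isBasis_iff_nbhd.mp X.isBasis_affineOpens) hw
  let C : Set ↥W₀ := {x | x.1 ∉ V}
  have hCcl : IsClosed C := by
    have : IsOpen {x : ↥W₀ | x.1 ∈ V} := hV.preimage continuous_subtype_val
    exact this.isClosed_compl
  have hCne : C.Nonempty := ⟨⟨w, hwW₀⟩, hnot⟩
  haveI : CompactSpace ↥W₀ := isCompact_iff_compactSpace.mp (IsAffineOpen.isCompact hW₀aff)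
  obtain ⟨c, hcC, hccl⟩ := hCcl.exists_closed_singleton hCne
  have hft := lft_fromSpecResidueField_of_isClosed W₀ c.1 c.2 hccl
  exact hcC (h c.1 (hW₀W c.2) hft)

/-- a quasi-finite flat finitely presented slice meeting every orbit. -/
theorem exists_qf_slice [Flat G.s] [Flat G.t] [LocallyOfFinitePresentation G.s]
    [LocallyOfFinitePresentation G.t]
    (hd0 : ∀ u : G.U, topologicalKrullDim ↥(G.stabilizerToU.fiber u) ≤ 0) :
    ∃ (Z : Scheme.{u}) (g : Z ⟶ G.U), Flat (pullback.snd g G.t ≫ G.s) ∧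
      LocallyOfFinitePresentation (pullback.snd g G.t ≫ G.s) ∧
      LocallyQuasiFinite (pullback.snd g G.t ≫ G.s) ∧ Surjective (pullback.snd g G.t ≫ G.s) := by
  obtain ⟨W, hW1, -, -, hW4⟩ := GrpdCM.exists_open G
  have hcm : ∀ u ∈ W, Grpd.IsCMAt G.s (G.e u) := by
    intro u hu
    rw [grpd_isCMAt_iff]
    have : G.e u ∈ (G.t ⁻¹ᵁ W : Set G.R) := by
      show G.t (G.e u) ∈ W
      rw [t_e_apply]; exact hu
    rw [hW1] at this
    exact this
  let I : Type u := {u : G.U // u ∈ W ∧ LocallyOfFiniteType (G.U.fromSpecResidueField u)}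
  choose Z hZ g p hI hL hz hp2 hfl hlfp hqf using fun i : I =>
    exists_max_slice_quasiFinite' G i.1 (hcm i.1 i.2.1) i.2.2 (hd0 i.1)
  have h1 := prop_sigma_of_local G @Flat Z g hfl
  have h2 := prop_sigma_of_local G @LocallyOfFinitePresentation Z g hlfp
  have h3 := prop_sigma_of_local G @LocallyQuasiFinite Z g hqf
  refine ⟨∐ Z, Sigma.desc g, h1, h2, h3, ?_⟩
  obtain ⟨h, hh⟩ : ∃ h, h = pullback.snd (Sigma.desc g) G.t ≫ G.s := ⟨_, rfl⟩
  rw [← hh] at h1 h2 h3 ⊢
  have hopen : IsOpen (Set.range h) := h.isOpenMap.isOpen_range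
  have hIr : ∀ i : I, i.1 ∈ Set.range h := by
    intro i
    have e1 : (Sigma.desc g) (Sigma.ι Z i (pullback.fst (g i) G.t (p i))) = G.t (G.e i.1) := by
      rw [← Scheme.Hom.comp_apply, Sigma.ι_desc, hz, t_e_apply]
    obtain ⟨q, -, hq2⟩ := Scheme.Pullback.exists_preimage_pullback _ _ e1
    exact ⟨q, by rw [hh, Scheme.Hom.comp_apply, hq2, s_e_apply]⟩
  have hWV : (W : Set G.U) ⊆ Set.range h :=
    subset_of_ftPts_mem W _ hopen fun x hxW hxft => hIr ⟨x, hxW, hxft⟩
  constructor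
  intro u
  have hu : u ∈ G.s '' (G.t ⁻¹ᵁ W : Set G.R) := by rw [hW4]; trivial
  obtain ⟨r, hr, rfl⟩ := hu
  rw [hh]
  refine range_h_invariant G _ r ?_
  rw [← hh]
  exact hWV hr

end Groth.Agent.Lib.Helper14.EqvSlice
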