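import Mathlib
import Groth.Prelude.Def_Grpd

/-!
# The stabilizer of a groupoid with `j` a monomorphism has zero dimensional fibres (helper14)
-/

set_option autoImplicit false
universe u

open CategoryTheory CategoryTheory.Limits AlgebraicGeometry

namespace Groth.Agent.Lib.Helper14.EqvSlice

variable {S : Scheme.{u}}

theorem subsingleton_fiber_of_mono {X Y : Scheme.{u}} (f : X ⟶ Y) [Mono f] (y : Y) :
    Subsingleton ↥(f.fiber y) := by
  have hm : Mono (f.fiberToSpecResidueField y) := by
    unfold Scheme.Hom.fiberToSpecResidueField
    exact pullback.snd_of_mono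
  have hinj : Function.Injective (f.fiberToSpecResidueField y) :=
    (f.fiberToSpecResidueField y).injective
  exact hinj.subsingleton

theorem stab_dim_le_zero (G : Grpd.GroupoidScheme S) [Mono G.j] (u : G.U) :
    topologicalKrullDim ↥(G.stabilizerToU.fiber u) ≤ 0 := by
  have hm : Mono G.stabilizerToU := by
    unfold Grpd.GroupoidScheme.stabilizerToU
    exact pullback.snd_of_mono
  have := subsingleton_fiber_of_mono G.stabilizerToU u
  exact topologicalKrullDim_zero_of_discreteTopology _

end Groth.Agent.Lib.Helper14.EqvSlice
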