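import Groth.Agent.Lib.Helper14.EqvSlice.Restrict
import Groth.Agent.Lib.Helper14.EqvSlice.Cover
import Groth.Agent.Lib.Helper14.EqvSlice.Stab

/-!
# Slicing an fppf equivalence relation to a quasi-finite one (helper14)
-/

set_option autoImplicit false
set_option linter.style.haveILetI false
universe u

open CategoryTheory CategoryTheory.Limits AlgebraicGeometry Opposite
open AlgSp

namespace Groth.Agent.Lib.Helper14.EqvSlice

open Groth.Agent.Lib.Helper14.MaxSlice

theorem main (S : Scheme.{u}) {R U : Over S} (s t : R ⟶ U)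
    (h : AlgSp.IsEqvRel s t) [Flat s.left] [LocallyOfFinitePresentation s.left]
    [Flat t.left] [LocallyOfFinitePresentation t.left] :
    ∃ (R' U' : Over S) (s' t' : R' ⟶ U') (g : U' ⟶ U) (r : R' ⟶ R)
      (ψ : QuotSh.quot Scheme.fppfPrecoverage s' t' ⟶ QuotSh.quot Scheme.fppfPrecoverage s t),
      AlgSp.IsEqvRel s' t' ∧ r ≫ s = s' ≫ g ∧ r ≫ t = t' ≫ g ∧
      Flat s'.left ∧ LocallyOfFinitePresentation s'.left ∧ LocallyQuasiFinite s'.left ∧
      Flat t'.left ∧ LocallyOfFinitePresentation t'.left ∧ LocallyQuasiFinite t'.left ∧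
      QuotSh.quotπ Scheme.fppfPrecoverage s' t' ≫ ψ =
        QuotSh.repMap Scheme.fppfPrecoverage g ≫ QuotSh.quotπ Scheme.fppfPrecoverage s t ∧
      IsIso ψ := by
  obtain ⟨D⟩ := nonempty_eqvData h
  haveI : Flat D.toGrpd.s := ‹Flat s.left›
  haveI : Flat D.toGrpd.t := ‹Flat t.left›
  haveI : LocallyOfFinitePresentation D.toGrpd.s := ‹LocallyOfFinitePresentation s.left›
  haveI : LocallyOfFinitePresentation D.toGrpd.t := ‹LocallyOfFinitePresentation t.left›
  obtain ⟨Z, g₀, h1, h2, h3, h4⟩ := exists_qf_slice D.toGrpd (fun u => stab_dim_le_zero D.toGrpd u)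
  have hF := restrict_prop D.toGrpd g₀ @Flat h1
  have hL := restrict_prop D.toGrpd g₀ @LocallyOfFinitePresentation h2
  have hQ := restrict_prop D.toGrpd g₀ @LocallyQuasiFinite h3
  haveI : Flat (hh s t g₀) := h1
  haveI : LocallyOfFinitePresentation (hh s t g₀) := h2
  haveI : Surjective (hh s t g₀) := h4
  obtain ⟨ψ, hψ⟩ := exists_quot_map s t (gO g₀) (s' s t g₀) (t' s t g₀) (rr s t g₀)
    (rr_s s t g₀) (rr_t s t g₀)
  exact ⟨R' s t g₀, U' g₀, s' s t g₀, t' s t g₀, gO g₀, rr s t g₀, ψ, isEqvRel s t g₀ h,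
    rr_s s t g₀, rr_t s t g₀, hF.1, hL.1, hQ.1, hF.2, hL.2, hQ.2, hψ,
    isIso_quot_map s t (gO g₀) (s' s t g₀) (t' s t g₀) h.equivalence (hlift s t g₀)
      (hloc s t g₀) ψ hψ⟩

end Groth.Agent.Lib.Helper14.EqvSlice
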