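import Groth.Agent.Lib.Helper16.QuotOpen

/-!
# Isomorphism of quotient sheaves induced by a restriction of an equivalence relation along an fppf-locally
surjective (up to the relation) map (helper14)
-/

set_option autoImplicit false
universe u
open CategoryTheory CategoryTheory.Limits AlgebraicGeometry Opposite
open AlgSp Groth.Agent.Lib.Helper15 Groth.Agent.Lib.Helper16 Groth.Agent.Lib.Helper16.QuotOpen

namespace Groth.Agent.Lib.Helper14.EqvSlice

variable {S : Scheme.{u}}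

theorem isIso_quotSp_map {R U R' U' : Over S} (s t : R ⟶ U) (g : U' ⟶ U) (s' t' : R' ⟶ U')
    (hpre : IsPreEqvRelSp ((yon S).map s) ((yon S).map t))
    (hlift : ∀ (T : Over S) (a b : T ⟶ U') (ρ : T ⟶ R), ρ ≫ t = a ≫ g → ρ ≫ s = b ≫ g →
      ∃ ρ' : T ⟶ R', ρ' ≫ t' = a ∧ ρ' ≫ s' = b)
    (hloc : ∀ (T : Over S) (b : T ⟶ U), ∃ Rc ∈ J S T,
      ∀ ⦃T' : Over S⦄ (c : T' ⟶ T), Rc c →
        ∃ (u' : T' ⟶ U') (ρ : T' ⟶ R), ρ ≫ t = u' ≫ g ∧ ρ ≫ s = c ≫ b)
    (ψ : quotSp ((yon S).map s') ((yon S).map t') ⟶ quotSp ((yon S).map s) ((yon S).map t))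
    (hψ : quotSpπ ((yon S).map s') ((yon S).map t') ≫ ψ =
      (yon S).map g ≫ quotSpπ ((yon S).map s) ((yon S).map t)) :
    IsIso ψ := by
  have hmono : Mono ψ := by
    refine mono_quotSp_map hpre ((yon S).map g) ((yon S).map s') ((yon S).map t') ?_ ψ hψ
    intro T a b ρ h1 h2
    obtain ⟨a₀, rfl⟩ := (yon S).map_surjective a
    obtain ⟨b₀, rfl⟩ := (yon S).map_surjective b
    obtain ⟨ρ₀, rfl⟩ := (yon S).map_surjective ρ
    rw [← Functor.map_comp, ← Functor.map_comp] at h1 h2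
    obtain ⟨ρ', h3, h4⟩ := hlift T a₀ b₀ ρ₀ ((yon S).map_injective h1) ((yon S).map_injective h2)
    exact ⟨(yon S).map ρ', by rw [← Functor.map_comp, h3], by rw [← Functor.map_comp, h4]⟩
  obtain ⟨π, hπ⟩ : ∃ π, π = quotSpπ ((yon S).map s) ((yon S).map t) := ⟨_, rfl⟩
  have hπc : (yon S).map s ≫ π = (yon S).map t ≫ π := by rw [hπ]; exact quotSp_condition _ _
  have hπe : Epi π := by
    rw [hπ]
    show Epi (coequalizer.π ((yon S).map s) ((yon S).map t))
    infer_instance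
  have hepi : Epi ((yon S).map g ≫ π) := by
    rw [epi_iff_locally_lift]
    intro T y
    obtain ⟨Rc, hRc, hl1⟩ := (epi_iff_locally_lift π).1 hπe T y
    obtain ⟨Sg, hSg⟩ : ∃ Sg : Sieve T, ∀ {T' : Over S} (d : T' ⟶ T), Sg d ↔
        ∃ x : (yon S).obj T' ⟶ (yon S).obj U', x ≫ ((yon S).map g ≫ π) = (yon S).map d ≫ y := by
      refine ⟨{ arrows := fun T' d => ∃ x : (yon S).obj T' ⟶ (yon S).obj U',
                  x ≫ ((yon S).map g ≫ π) = (yon S).map d ≫ y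
                downward_closed := ?_ }, fun d => Iff.rfl⟩
      rintro Y Z d ⟨x, hx⟩ e
      exact ⟨(yon S).map e ≫ x, by rw [Category.assoc, hx, ← Category.assoc, ← Functor.map_comp]⟩
    refine ⟨Sg, ?_, fun T' d hd => (hSg d).1 hd⟩
    refine (J S).transitive hRc Sg ?_
    intro T₁ c hc
    obtain ⟨b, hb⟩ := hl1 c hc
    obtain ⟨b₀, rfl⟩ := (yon S).map_surjective b
    obtain ⟨Rc', hRc', hl2⟩ := hloc T₁ b₀
    refine (J S).superset_covering ?_ hRc'
    intro T₂ d hd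
    obtain ⟨u', ρ, h1, h2⟩ := hl2 d hd
    refine (hSg (d ≫ c)).2 ⟨(yon S).map u', ?_⟩
    have e1 : (yon S).map u' ≫ (yon S).map g = (yon S).map ρ ≫ (yon S).map t := by
      rw [← Functor.map_comp, ← Functor.map_comp, h1]
    have e2 : (yon S).map ρ ≫ (yon S).map s = (yon S).map d ≫ (yon S).map b₀ := by
      rw [← Functor.map_comp, ← Functor.map_comp, h2]
    calc (yon S).map u' ≫ ((yon S).map g ≫ π)
        = ((yon S).map u' ≫ (yon S).map g) ≫ π := (Category.assoc _ _ _).symm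
      _ = (yon S).map ρ ≫ (yon S).map s ≫ π := by rw [e1, Category.assoc, hπc]
      _ = ((yon S).map ρ ≫ (yon S).map s) ≫ π := (Category.assoc _ _ _).symm
      _ = (yon S).map d ≫ (yon S).map c ≫ y := by rw [e2, Category.assoc, hb]
      _ = (yon S).map (d ≫ c) ≫ y := by rw [Functor.map_comp, Category.assoc]
  rw [hπ] at hepi
  exact isIso_quotSp_map_of_mono ((yon S).map g) ψ hψ hmono hepi

/-- `QuotSh` version. -/
theorem isIso_quot_map {R U R' U' : Over S} (s t : R ⟶ U) (g : U' ⟶ U) (s' t' : R' ⟶ U')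
    (hE : ∀ T : Over S, _root_.Equivalence (fun a b : T ⟶ U => ∃ r : T ⟶ R, r ≫ t = a ∧ r ≫ s = b))
    (hlift : ∀ (T : Over S) (a b : T ⟶ U') (ρ : T ⟶ R), ρ ≫ t = a ≫ g → ρ ≫ s = b ≫ g →
      ∃ ρ' : T ⟶ R', ρ' ≫ t' = a ∧ ρ' ≫ s' = b)
    (hloc : ∀ (T : Over S) (b : T ⟶ U), ∃ Rc ∈ J S T,
      ∀ ⦃T' : Over S⦄ (c : T' ⟶ T), Rc c →
        ∃ (u' : T' ⟶ U') (ρ : T' ⟶ R), ρ ≫ t = u' ≫ g ∧ ρ ≫ s = c ≫ b)
    (φ : QuotSh.quot Scheme.fppfPrecoverage s' t' ⟶ QuotSh.quot Scheme.fppfPrecoverage s t)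
    (hφ : QuotSh.quotπ Scheme.fppfPrecoverage s' t' ≫ φ =
      QuotSh.repMap Scheme.fppfPrecoverage g ≫ QuotSh.quotπ Scheme.fppfPrecoverage s t) :
    IsIso φ := by
  obtain ⟨e, he⟩ := exists_iso_quot_quotSp s t
  obtain ⟨e', he'⟩ := exists_iso_quot_quotSp s' t'
  have hψ : quotSpπ ((yon S).map s') ((yon S).map t') ≫ (e'.inv ≫ φ ≫ e.hom) =
      (yon S).map g ≫ quotSpπ ((yon S).map s) ((yon S).map t) := by
    have h1 : quotSpπ ((yon S).map s') ((yon S).map t') =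
        (QuotSh.repIsoUliftYoneda Scheme.fppfPrecoverage U').inv ≫
          QuotSh.quotπ Scheme.fppfPrecoverage s' t' ≫ e'.hom := by
      rw [he', Iso.inv_hom_id_assoc]
    rw [h1]
    simp only [Category.assoc, Iso.hom_inv_id_assoc]
    rw [reassoc_of% hφ, he, ← Category.assoc (QuotSh.repMap Scheme.fppfPrecoverage g), repIso_naturality,
      Category.assoc, Iso.inv_hom_id_assoc]
  have hiso := isIso_quotSp_map s t g s' t' (isPreEqvRelSp_yon s t hE) hlift hloc _ hψ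
  have h2 : φ = e'.hom ≫ (e'.inv ≫ φ ≫ e.hom) ≫ e.inv := by simp
  rw [h2]
  infer_instance

/-- the induced map of quotient sheaves -/
theorem exists_quot_map {R U R' U' : Over S} (s t : R ⟶ U) (g : U' ⟶ U) (s' t' : R' ⟶ U') (r : R' ⟶ R)
    (hs : r ≫ s = s' ≫ g) (ht : r ≫ t = t' ≫ g) :
    ∃ φ : QuotSh.quot Scheme.fppfPrecoverage s' t' ⟶ QuotSh.quot Scheme.fppfPrecoverage s t,
      QuotSh.quotπ Scheme.fppfPrecoverage s' t' ≫ φ =
        QuotSh.repMap Scheme.fppfPrecoverage g ≫ QuotSh.quotπ Scheme.fppfPrecoverage s t := by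
  have hcomp : ∀ {A B C : Over S} (a : A ⟶ B) (b : B ⟶ C),
      QuotSh.repMap Scheme.fppfPrecoverage (a ≫ b) =
        QuotSh.repMap Scheme.fppfPrecoverage a ≫ QuotSh.repMap Scheme.fppfPrecoverage b := by
    intro A B C a b
    show (presheafToSheaf _ _).map _ = (presheafToSheaf _ _).map _ ≫ (presheafToSheaf _ _).map _
    rw [← Functor.map_comp, ← Functor.whiskerRight_comp, ← yoneda.map_comp]
  have hcond : QuotSh.repMap Scheme.fppfPrecoverage s' ≫
      (QuotSh.repMap Scheme.fppfPrecoverage g ≫ QuotSh.quotπ Scheme.fppfPrecoverage s t) =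
      QuotSh.repMap Scheme.fppfPrecoverage t' ≫
      (QuotSh.repMap Scheme.fppfPrecoverage g ≫ QuotSh.quotπ Scheme.fppfPrecoverage s t) := by
    rw [← Category.assoc, ← hcomp, ← hs, hcomp, Category.assoc, QuotSh.quot_condition,
      ← Category.assoc, ← hcomp, ht, hcomp, Category.assoc]
  exact ⟨coequalizer.desc _ hcond, coequalizer.π_desc _ _⟩

end Groth.Agent.Lib.Helper14.EqvSlice
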