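import Groth.Agent.Lib.Helper14.EqvSlice.Quot
import Groth.Agent.Lib.Helper14.EqvSlice.Grpd
import Groth.Agent.Lib.Helper16.LocSurj

/-!
# Restriction of an equivalence relation over `S` along `g₀ : Z ⟶ U` (helper14)
-/

set_option autoImplicit false
set_option linter.style.haveILetI false
universe u

open CategoryTheory CategoryTheory.Limits AlgebraicGeometry Opposite
open AlgSp Groth.Agent.Lib.Helper15 Groth.Agent.Lib.Helper16

namespace Groth.Agent.Lib.Helper14.EqvSlice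

variable {S : Scheme.{u}} {R U : Over S} (s t : R ⟶ U) {Z : Scheme.{u}} (g₀ : Z ⟶ U.left)

/-- `h = s ∘ pr₂ : Z ×_{g₀,U,t} R ⟶ U`. -/
noncomputable abbrev hh : pullback g₀ t.left ⟶ U.left := pullback.snd g₀ t.left ≫ s.left

/-- `Z` as a scheme over `S`. -/
noncomputable abbrev U' : Over S := Over.mk (g₀ ≫ U.hom)

/-- `g₀` as a morphism over `S`. -/
noncomputable abbrev gO : U' g₀ ⟶ U := Over.homMk g₀ rfl

/-- the restricted relation `R' = (Z ×_{g₀,U,t} R) ×_{h,U,g₀} Z`. -/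
noncomputable abbrev R' : Over S := Over.mk (pullback.snd (hh s t g₀) g₀ ≫ g₀ ≫ U.hom)

noncomputable abbrev s' : R' s t g₀ ⟶ U' g₀ := Over.homMk (pullback.snd (hh s t g₀) g₀) rfl

theorem r_w : (pullback.fst (hh s t g₀) g₀ ≫ pullback.snd g₀ t.left) ≫ R.hom =
    pullback.snd (hh s t g₀) g₀ ≫ g₀ ≫ U.hom := by
  calc (pullback.fst (hh s t g₀) g₀ ≫ pullback.snd g₀ t.left) ≫ R.hom
      = (pullback.fst (hh s t g₀) g₀ ≫ pullback.snd g₀ t.left) ≫ s.left ≫ U.hom := by rw [Over.w s]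
    _ = (pullback.fst (hh s t g₀) g₀ ≫ hh s t g₀) ≫ U.hom := by simp only [Category.assoc]
    _ = pullback.snd (hh s t g₀) g₀ ≫ g₀ ≫ U.hom := by rw [pullback.condition, Category.assoc]

theorem t'_w : (pullback.fst (hh s t g₀) g₀ ≫ pullback.fst g₀ t.left) ≫ g₀ ≫ U.hom =
    pullback.snd (hh s t g₀) g₀ ≫ g₀ ≫ U.hom := by
  rw [← r_w, Category.assoc, Category.assoc, ← Over.w t, ← Category.assoc (pullback.fst g₀ t.left),
    pullback.condition, Category.assoc]

noncomputable abbrev t' : R' s t g₀ ⟶ U' g₀ :=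
  Over.homMk (pullback.fst (hh s t g₀) g₀ ≫ pullback.fst g₀ t.left) (t'_w s t g₀)

noncomputable abbrev rr : R' s t g₀ ⟶ R :=
  Over.homMk (pullback.fst (hh s t g₀) g₀ ≫ pullback.snd g₀ t.left) (r_w s t g₀)

theorem rr_s : rr s t g₀ ≫ s = s' s t g₀ ≫ gO g₀ := by
  apply Over.OverMorphism.ext
  show (pullback.fst (hh s t g₀) g₀ ≫ pullback.snd g₀ t.left) ≫ s.left =
    pullback.snd (hh s t g₀) g₀ ≫ g₀
  rw [Category.assoc, pullback.condition]

theorem rr_t : rr s t g₀ ≫ t = t' s t g₀ ≫ gO g₀ := by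
  apply Over.OverMorphism.ext
  show (pullback.fst (hh s t g₀) g₀ ≫ pullback.snd g₀ t.left) ≫ t.left =
    (pullback.fst (hh s t g₀) g₀ ≫ pullback.fst g₀ t.left) ≫ g₀
  rw [Category.assoc, Category.assoc, pullback.condition]

theorem hlift (T : Over S) (a b : T ⟶ U' g₀) (ρ : T ⟶ R) (h1 : ρ ≫ t = a ≫ gO g₀)
    (h2 : ρ ≫ s = b ≫ gO g₀) : ∃ ρ' : T ⟶ R' s t g₀, ρ' ≫ t' s t g₀ = a ∧ ρ' ≫ s' s t g₀ = b := by
  have e1 : a.left ≫ g₀ = ρ.left ≫ t.left := (congrArg (·.left) h1).symm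
  have e2 : ρ.left ≫ s.left = b.left ≫ g₀ := congrArg (·.left) h2
  have e3 : pullback.lift a.left ρ.left e1 ≫ hh s t g₀ = b.left ≫ g₀ := by
    rw [← Category.assoc, pullback.lift_snd, e2]
  refine ⟨Over.homMk (pullback.lift (pullback.lift a.left ρ.left e1) b.left e3) ?_, ?_, ?_⟩
  · show pullback.lift (pullback.lift a.left ρ.left e1) b.left e3 ≫
      pullback.snd (hh s t g₀) g₀ ≫ g₀ ≫ U.hom = T.hom
    rw [pullback.lift_snd_assoc]
    exact Over.w b
  · apply Over.OverMorphism.ext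
    show pullback.lift (pullback.lift a.left ρ.left e1) b.left e3 ≫
      pullback.fst (hh s t g₀) g₀ ≫ pullback.fst g₀ t.left = a.left
    rw [pullback.lift_fst_assoc, pullback.lift_fst]
  · apply Over.OverMorphism.ext
    show pullback.lift (pullback.lift a.left ρ.left e1) b.left e3 ≫
      pullback.snd (hh s t g₀) g₀ = b.left
    rw [pullback.lift_snd]

theorem isEqvRel (h : AlgSp.IsEqvRel s t) : AlgSp.IsEqvRel (s' s t g₀) (t' s t g₀) := by
  have key : ∀ (T : Over S) (a b : T ⟶ U' g₀),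
      (∃ r : T ⟶ R' s t g₀, r ≫ t' s t g₀ = a ∧ r ≫ s' s t g₀ = b) ↔
      (∃ r : T ⟶ R, r ≫ t = a ≫ gO g₀ ∧ r ≫ s = b ≫ gO g₀) := by
    intro T a b
    constructor
    · rintro ⟨r, rfl, rfl⟩
      exact ⟨r ≫ rr s t g₀, by rw [Category.assoc, rr_t, Category.assoc],
        by rw [Category.assoc, rr_s, Category.assoc]⟩
    · rintro ⟨ρ, h1, h2⟩
      exact hlift s t g₀ T a b ρ h1 h2
  refine ⟨fun T r1 r2 ht hs => ?_, fun T => ⟨fun a => ?_, fun {a b} hab => ?_,
    fun {a b c} hab hbc => ?_⟩⟩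
  · have ht' : r1.left ≫ pullback.fst (hh s t g₀) g₀ ≫ pullback.fst g₀ t.left =
        r2.left ≫ pullback.fst (hh s t g₀) g₀ ≫ pullback.fst g₀ t.left := congrArg (·.left) ht
    have hs' : r1.left ≫ pullback.snd (hh s t g₀) g₀ = r2.left ≫ pullback.snd (hh s t g₀) g₀ :=
      congrArg (·.left) hs
    have hr : r1 ≫ rr s t g₀ = r2 ≫ rr s t g₀ := by
      apply h.injective
      · rw [Category.assoc, Category.assoc, rr_t, ← Category.assoc, ← Category.assoc, ht]
      · rw [Category.assoc, Category.assoc, rr_s, ← Category.assoc, ← Category.assoc, hs]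
    have hr' : r1.left ≫ pullback.fst (hh s t g₀) g₀ ≫ pullback.snd g₀ t.left =
        r2.left ≫ pullback.fst (hh s t g₀) g₀ ≫ pullback.snd g₀ t.left := congrArg (·.left) hr
    apply Over.OverMorphism.ext
    apply pullback.hom_ext
    · apply pullback.hom_ext
      · simpa only [Category.assoc] using ht'
      · simpa only [Category.assoc] using hr'
    · exact hs'
  · exact (key T a a).2 ((h.equivalence T).refl (a ≫ gO g₀))
  · exact (key T b a).2 ((h.equivalence T).symm ((key T a b).1 hab))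
  · exact (key T a c).2 ((h.equivalence T).trans ((key T a b).1 hab) ((key T b c).1 hbc))

theorem hloc [Flat (hh s t g₀)] [LocallyOfFinitePresentation (hh s t g₀)] [Surjective (hh s t g₀)]
    (T : Over S) (b : T ⟶ U) : ∃ Rc ∈ J S T,
      ∀ ⦃T' : Over S⦄ (c : T' ⟶ T), Rc c →
        ∃ (u' : T' ⟶ U' g₀) (ρ : T' ⟶ R), ρ ≫ t = u' ≫ gO g₀ ∧ ρ ≫ s = c ≫ b := by
  have hw : (pullback.snd b.left (hh s t g₀) ≫ pullback.snd g₀ t.left) ≫ R.hom =
      pullback.fst b.left (hh s t g₀) ≫ T.hom := by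
    calc (pullback.snd b.left (hh s t g₀) ≫ pullback.snd g₀ t.left) ≫ R.hom
        = (pullback.snd b.left (hh s t g₀) ≫ pullback.snd g₀ t.left) ≫ s.left ≫ U.hom := by
          rw [Over.w s]
      _ = (pullback.snd b.left (hh s t g₀) ≫ hh s t g₀) ≫ U.hom := by simp only [Category.assoc]
      _ = pullback.fst b.left (hh s t g₀) ≫ b.left ≫ U.hom := by
          rw [← pullback.condition, Category.assoc]
      _ = pullback.fst b.left (hh s t g₀) ≫ T.hom := by rw [Over.w b]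
  have hw' : (pullback.snd b.left (hh s t g₀) ≫ pullback.fst g₀ t.left) ≫ g₀ ≫ U.hom =
      pullback.fst b.left (hh s t g₀) ≫ T.hom := by
    rw [← hw, Category.assoc, Category.assoc, ← Over.w t, ← Category.assoc (pullback.fst g₀ t.left),
      pullback.condition, Category.assoc]
  let T₁ : Over S := Over.mk (pullback.fst b.left (hh s t g₀) ≫ T.hom)
  let c₁ : T₁ ⟶ T := Over.homMk (pullback.fst b.left (hh s t g₀)) rfl
  haveI : Flat c₁.left := by
    show Flat (pullback.fst b.left (hh s t g₀))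
    infer_instance
  haveI : LocallyOfFinitePresentation c₁.left := by
    show LocallyOfFinitePresentation (pullback.fst b.left (hh s t g₀))
    infer_instance
  haveI : Surjective c₁.left := by
    show Surjective (pullback.fst b.left (hh s t g₀))
    infer_instance
  let ρ₁ : T₁ ⟶ R := Over.homMk (pullback.snd b.left (hh s t g₀) ≫ pullback.snd g₀ t.left) hw
  let v₁ : T₁ ⟶ U' g₀ :=
    Over.homMk (pullback.snd b.left (hh s t g₀) ≫ pullback.fst g₀ t.left) hw'
  have e1 : ρ₁ ≫ t = v₁ ≫ gO g₀ := by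
    apply Over.OverMorphism.ext
    show (pullback.snd b.left (hh s t g₀) ≫ pullback.snd g₀ t.left) ≫ t.left =
      (pullback.snd b.left (hh s t g₀) ≫ pullback.fst g₀ t.left) ≫ g₀
    rw [Category.assoc, Category.assoc, pullback.condition]
  have e2 : ρ₁ ≫ s = c₁ ≫ b := by
    apply Over.OverMorphism.ext
    show (pullback.snd b.left (hh s t g₀) ≫ pullback.snd g₀ t.left) ≫ s.left =
      pullback.fst b.left (hh s t g₀) ≫ b.left
    rw [Category.assoc, pullback.condition]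
  refine ⟨⟨fun T' c => ∃ d : T' ⟶ T₁, d ≫ c₁ = c, ?_⟩,
    sieve_mem_J_of_fppf c₁ _ ⟨𝟙 _, Category.id_comp _⟩, ?_⟩
  · rintro Y Z' c ⟨d, rfl⟩ e
    exact ⟨e ≫ d, Category.assoc _ _ _⟩
  · rintro T' c ⟨d, rfl⟩
    exact ⟨d ≫ v₁, d ≫ ρ₁, by rw [Category.assoc, e1, Category.assoc],
      by rw [Category.assoc, e2, Category.assoc]⟩

end Groth.Agent.Lib.Helper14.EqvSlice
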